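import Groth.Prelude.Def_SGA3x
import Groth.Agent.DSIso26.Basic
import Groth.Agent.SGA3cLib.NormalMultCentral
import Groth.Agent.Et18.Descent
import Groth.Agent.AbSchLib.SmoothReduced
import Mathlib.AlgebraicGeometry.ZariskisMainTheorem

/-! Quasi-finite normal subgroups: field-valued points are central; power maps of groups of multiplicative type are finite. -/

set_option autoImplicit false
set_option linter.style.haveILetI false
set_option backward.isDefEq.respectTransparency.types false
set_option maxHeartbeats 1000000
set_option synthInstance.maxHeartbeats 200000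
universe u

open CategoryTheory CategoryTheory.Limits MonoidalCategory CartesianMonoidalCategory MonObj GrpObj AlgebraicGeometry

namespace Groth.Agent.FinNormal26

open Groth.Agent.SGA3cLib

variable {S : Scheme.{u}}

/-- The power maps of a group of multiplicative type and of finite type are finite. -/
theorem isFinite_pow {Z : Over S} [GrpObj Z] (hZ : SGA3x.IsMultTypeFT Z) {n : ℕ} (hn : n ≠ 0) :
    IsFinite ((𝟙 Z) ^ n).left := by
  obtain ⟨S', f, hfl, hsu, hq, hU⟩ := hZ
  haveI := hfl
  haveI := hsu
  haveI : MorphismProperty.DescendsAlong (@IsFinite : MorphismProperty Scheme.{u})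
      (@Surjective ⊓ @Flat ⊓ @QuasiCompact) := Et18.descends_isFinite
  have hcov := IsFpqcCov.of_forall f hq
  let u := (𝟙 Z) ^ n
  have h1 : IsFinite ((Over.pullback f).map u).left := by
    choose U hmem M hMg hfg he using hU
    refine IsZariskiLocalAtTarget.of_iSup_eq_top (P := @IsFinite)
      (fun s => pullback.snd Z.hom f ⁻¹ᵁ U s) (eq_top_iff.2 fun x _ =>
        TopologicalSpace.Opens.mem_iSup.2 ⟨(pullback.snd Z.hom f).base x, hmem _⟩) fun s => ?_
    letI := hMg s
    haveI := hfg s
    obtain ⟨E⟩ := he s
    let g := (U s).ι ≫ f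
    let w : Red.bc g Z ≅ Red.DS (U s : Scheme.{u}) (M s) := (Grp.forget _).mapIso E
    haveI : IsMonHom w.hom := E.hom.hom.isMonHom_hom
    haveI : IsMonHom w.inv := inferInstance
    have h2 : (Over.pullback g).map u = w.hom ≫ Red.DSmap (U s : Scheme.{u}) (nsmulAddMonoidHom (α := M s) n) ≫ w.inv := by
      rw [← AlgGrpLib.TorusIsogeny.pow_eq_DSmap, MonObj.pow_comp, Category.id_comp, MonObj.comp_pow, Iso.hom_inv_id]
      show (Over.pullback g).map ((𝟙 Z) ^ n) = _
      rw [← DSIso26.map_pow_eq (Over.pullback g) (𝟙 Z) n, CategoryTheory.Functor.map_id]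
    haveI : IsFinite (Red.DSmap (U s : Scheme.{u}) (nsmulAddMonoidHom (α := M s) n)).left :=
      AlgGrpLib.TorusIsogeny.isFinite_DSmap n hn _
    haveI : IsIso w.hom.left := inferInstanceAs (IsIso ((Over.forget _).map w.hom))
    haveI : IsIso w.inv.left := inferInstanceAs (IsIso ((Over.forget _).map w.inv))
    have h3 : IsFinite ((Over.pullback g).map u).left := by
      rw [h2, Over.comp_left, Over.comp_left]
      infer_instance
    obtain ⟨m, m', h₁, h₂⟩ := MultHomLocus.exists_sq u f (U s).ι g rfl
    let W := pullback.snd Z.hom f ⁻¹ᵁ U s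
    haveI : IsOpenImmersion m' := MorphismProperty.of_isPullback (P := @IsOpenImmersion) h₂.flip inferInstance
    have hr : Set.range m'.base = Set.range W.ι.base := by
      rw [Scheme.Opens.range_ι]
      ext x
      constructor
      · rintro ⟨y, rfl⟩
        show (pullback.snd Z.hom f).base (m'.base y) ∈ U s
        rw [← Scheme.Hom.comp_apply, h₂.w, Scheme.Hom.comp_apply]
        exact ((pullback.snd Z.hom g).base y).2
      · intro hx
        obtain ⟨y, hy, -⟩ := Scheme.exists_preimage_of_isPullback h₂ x ⟨_, hx⟩ rfl
        exact ⟨y, hy⟩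
    let i := IsOpenImmersion.isoOfRangeEq m' W.ι hr
    have hsq : IsPullback (((Over.pullback g).map u).left ≫ i.hom) m W.ι ((Over.pullback f).map u).left :=
      h₁.flip.of_iso (Iso.refl _) i (Iso.refl _) (Iso.refl _) (by simp) (by simp)
        (by simp [i, IsOpenImmersion.isoOfRangeEq_hom_fac]) (by simp)
    haveI := h3
    haveI : IsFinite (((Over.pullback g).map u).left ≫ i.hom) := inferInstance
    have hres := (isPullback_morphismRestrict ((Over.pullback f).map u).left W)
    show IsFinite (((Over.pullback f).map u).left ∣_ W)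
    rw [← IsPullback.isoIsPullback_hom_fst _ _ hres hsq]
    infer_instance
  have h4 := MultHomLocus.of_fpqc (P := @IsFinite) u (𝟙 S) f hcov f (Category.comp_id _) h1
  exact (MorphismProperty.arrow_mk_iso_iff @IsFinite
    (Arrow.isoMk ((Over.forget S).mapIso (Over.pullbackId.app Z)) ((Over.forget S).mapIso (Over.pullbackId.app Z))
      (congrArg CommaMorphism.left (Over.pullbackId.hom.naturality u)).symm)).mp h4

/-- A morphism from a reduced scheme whose image lies in that of a closed immersion factors through it. -/
theorem exists_factor {A B C : Scheme.{u}} [IsReduced A] (a : A ⟶ B) (x : C ⟶ B) [IsClosedImmersion x]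
    (h : Set.range a.base ⊆ Set.range x.base) : ∃ b : A ⟶ C, b ≫ x = a := by
  haveI : Surjective (pullback.fst a x) := ⟨fun p => by
    obtain ⟨c, hc⟩ := h ⟨p, rfl⟩
    obtain ⟨z, hz, -⟩ := Scheme.Pullback.exists_preimage_pullback (f := a) (g := x) p c hc.symm
    exact ⟨z, hz⟩⟩
  haveI := isIso_of_isClosedImmersion_of_surjective (pullback.fst a x)
  exact ⟨inv (pullback.fst a x) ≫ pullback.snd a x, by rw [Category.assoc, ← pullback.condition, IsIso.inv_hom_id_assoc]⟩

variable {G K : Over S} [GrpObj G] [GrpObj K] [Smooth G.hom] (k : K ⟶ G) [IsSeparated K.hom] [QuasiCompact K.hom]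
  [LocallyQuasiFinite K.hom] {L : Type u} [Field L] (ω : Spec (CommRingCat.of L) ⟶ S)

include ω in
/-- Over a field the set of rational points of a quasi-finite group is finite. -/
theorem finite_pts : Finite (Over.mk ω ⟶ K) := by
  let P := pullback K.hom ω
  haveI : IsLocallyArtinian P := IsLocallyArtinian.of_locallyQuasiFinite (pullback.snd K.hom ω)
  haveI : CompactSpace P := QuasiCompact.compactSpace_of_compactSpace (pullback.snd K.hom ω)
  haveI : Finite P := finite_of_compact_of_discrete
  let sec : (Over.mk ω ⟶ K) → (Spec (CommRingCat.of L) ⟶ P) := fun a => pullback.lift a.left (𝟙 _) (by simp)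
  refine Finite.of_injective (fun a => (sec a).base (IsLocalRing.closedPoint L)) fun a b h => ?_
  haveI : IsClosedImmersion (sec b) := by
    haveI : IsClosedImmersion (sec b ≫ pullback.snd K.hom ω) := by
      rw [show sec b ≫ pullback.snd K.hom ω = 𝟙 _ from pullback.lift_snd _ _ _]; infer_instance
    exact IsClosedImmersion.of_comp (sec b) (pullback.snd K.hom ω)
  obtain ⟨c, hc⟩ := exists_factor (sec a) (sec b) (by
    rintro _ ⟨y, rfl⟩
    rw [Subsingleton.elim y (IsLocalRing.closedPoint L)]
    exact ⟨_, h.symm⟩)
  have h1 := congrArg (· ≫ pullback.snd K.hom ω) hc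
  simp only [sec, Category.assoc, pullback.lift_snd, Category.comp_id] at h1
  subst h1
  rw [Category.id_comp] at hc
  apply Over.OverMorphism.ext
  have h2 := congrArg (· ≫ pullback.fst K.hom ω) hc
  simp only [sec] at h2
  rw [pullback.lift_fst, pullback.lift_fst] at h2
  exact h2.symm

/-- A field-valued point of a quasi-finite normal subgroup of a smooth group with connected fibres is central. -/
theorem central_point [IsMonHom k] [Mono k] (hn : AlgGrp.IsNormalHom k)
    (hconn : ∀ s : S, ConnectedSpace ↥(pullback G.hom (S.fromSpecResidueField s)))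
    (x : Over.mk ω ⟶ K) (X' : Over S) (y : X' ⟶ Over.mk ω) (h : X' ⟶ G) :
    (y ≫ x ≫ k) * h = h * (y ≫ x ≫ k) := by
  let X := Over.mk ω
  let P := G ⊗ X
  obtain ⟨n', hn'⟩ := hn P (fst G X) (snd G X ≫ x)
  haveI : IsReduced P.left := AbSchLib.isReduced_of_smooth (pullback.snd G.hom ω)
  haveI : ConnectedSpace P.left := NormalMultCentral.connectedSpace_bc G hconn ω
  let Q := pullback K.hom ω
  haveI : IsLocallyArtinian Q := IsLocallyArtinian.of_locallyQuasiFinite (pullback.snd K.hom ω)
  let a : P.left ⟶ Q := pullback.lift n'.left (snd G X).left (by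
    rw [Over.w n']
    exact (Over.w (snd G X)).symm)
  let s : Spec (CommRingCat.of L) ⟶ Q := pullback.lift x.left (𝟙 _) (by simp)
  haveI : IsClosedImmersion s := by
    haveI : IsClosedImmersion (s ≫ pullback.snd K.hom ω) := by
      rw [show s ≫ pullback.snd K.hom ω = 𝟙 _ from pullback.lift_snd _ _ _]; infer_instance
    exact IsClosedImmersion.of_comp s (pullback.snd K.hom ω)
  let e : X ⟶ P := lift 1 (𝟙 X)
  have he : e ≫ n' = x := by
    rw [← cancel_mono k, Category.assoc, ← hn']
    simp [e, MonObj.comp_mul, GrpObj.comp_inv]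
  have hea : e.left ≫ a = s := by
    apply pullback.hom_ext
    · simp only [a, s, Category.assoc, pullback.lift_fst]
      rw [← Over.comp_left, he]
    · simp only [a, s, Category.assoc, pullback.lift_snd]
      rw [← Over.comp_left, lift_snd]
      rfl
  obtain ⟨b, hb⟩ := exists_factor a s (by
    rintro _ ⟨p, rfl⟩
    refine ⟨IsLocalRing.closedPoint L, ?_⟩
    rw [← hea, Scheme.Hom.comp_apply]
    exact PreconnectedSpace.constant inferInstance a.continuous)
  have h1 : n' = snd G X ≫ x := by
    apply Over.OverMorphism.ext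
    have hb' : b = (snd G X).left := by
      have := congrArg (· ≫ pullback.snd K.hom ω) hb
      simp only [s, a, Category.assoc, pullback.lift_snd, Category.comp_id] at this
      exact this
    have := congrArg (· ≫ pullback.fst K.hom ω) hb
    simp only [s, a, Category.assoc, pullback.lift_fst, hb'] at this
    rw [Over.comp_left]
    exact this.symm
  rw [h1] at hn'
  have h2 := congrArg (lift h y ≫ ·) hn'
  simp only [MonObj.comp_mul, GrpObj.comp_inv, Category.assoc] at h2
  have e1 : lift h y ≫ fst G X = h := lift_fst _ _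
  have e2 : lift h y ≫ snd G X = y := lift_snd _ _
  rw [e1, reassoc_of% e2] at h2
  exact (mul_inv_eq_iff_eq_mul.mp h2).symm

end Groth.Agent.FinNormal26
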