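import Groth.Prelude.Def_Red
import Groth.Agent.SGA3UnitSec.LqfLocus
import Groth.Agent.FlatLocal.DiagLocal
import Groth.Agent.SemiMono26.Basic
import Mathlib.AlgebraicGeometry.ZariskisMainTheorem

/-! Neighbourhoods over which a group scheme is quasi-finite, or a finite group scheme is trivial. -/

set_option autoImplicit false
set_option linter.style.haveILetI false
set_option backward.isDefEq.respectTransparency.types false
set_option maxHeartbeats 1000000
set_option synthInstance.maxHeartbeats 200000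
universe u

open CategoryTheory CategoryTheory.Limits MonoidalCategory CartesianMonoidalCategory MonObj GrpObj AlgebraicGeometry

namespace Groth.Agent.FinNormal26

variable {S : Scheme.{u}}

/-- A group scheme with a finite fibre is quasi-finite near that point. -/
theorem exists_lqf_nhd (K : Over S) [GrpObj K] [LocallyOfFiniteType K.hom] (s : S)
    (h : IsFinite (Red.bc (S.fromSpecResidueField s) K).hom) :
    ∃ U : S.Opens, s ∈ U ∧ LocallyQuasiFinite (Red.bc U.ι K).hom := by
  let ε : S ⟶ K.left := η[K].left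
  have hεp : ∀ t, K.hom (ε t) = t := fun t => congrArg (fun q : S ⟶ S => q t) (show ε ≫ K.hom = 𝟙 S from Over.w η[K])
  haveI : IsFinite (K.hom.fiberToSpecResidueField s) := h
  haveI : IsLocallyArtinian (K.hom.fiber s) := IsLocallyArtinian.of_locallyQuasiFinite (K.hom.fiberToSpecResidueField s)
  refine ⟨ε ⁻¹ᵁ K.hom.quasiFiniteLocus, ?_, ?_⟩
  · show K.hom.QuasiFiniteAt (ε s)
    rw [Scheme.Hom.quasiFiniteAt_iff_isOpen_singleton_asFiber]
    have key : ∀ y, y = s → ∀ w : K.hom.fiber y, IsOpen ({w} : Set (K.hom.fiber y)) := by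
      rintro y rfl w
      exact isOpen_discrete _
    exact key _ (hεp s) _
  · let U : S.Opens := ε ⁻¹ᵁ K.hom.quasiFiniteLocus
    refine SGA3UnitSec.locallyQuasiFinite_of_forall (pullback.snd K.hom U.ι) fun z => ?_
    have e : pullback.snd K.hom U.ι ≫ U.ι = pullback.fst K.hom U.ι ≫ K.hom := pullback.condition.symm
    rw [← Scheme.Hom.quasiFiniteAt_comp_iff (g := U.ι), e, Scheme.Hom.quasiFiniteAt_comp_iff_of_isOpenImmersion,
      Scheme.Hom.quasiFiniteAt_iff_isOpen_singleton_asFiber]
    have hm : K.hom (pullback.fst K.hom U.ι z) ∈ U := by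
      rw [← Scheme.Hom.comp_apply, ← e, Scheme.Hom.comp_apply]
      exact (pullback.snd K.hom U.ι z).2
    haveI := SGA3UnitSec.discreteTopology_fiber_of_unit K _ hm
    exact isOpen_discrete _

/-- A finite morphism with a section which is an isomorphism on one fibre is one nearby. -/
theorem exists_iso_nhd {X : Scheme.{u}} (p : X ⟶ S) [IsFinite p] (e : S ⟶ X) (he : e ≫ p = 𝟙 S) (s : S)
    (hs : IsIso (p.fiberToSpecResidueField s)) :
    ∃ U : S.Opens, s ∈ U ∧ IsIso (pullback.snd p U.ι) := by
  let x := e.base s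
  have hx : p.base x = s := by rw [← Scheme.Hom.comp_apply, he]; rfl
  obtain ⟨x', hx'⟩ : ∃ x', p.fiberι s x' = x := by
    have : x ∈ Set.range (p.fiberι s) := by rw [Scheme.Hom.range_fiberι]; exact hx
    exact this
  haveI := hs
  haveI : LocallyOfFiniteType (p.fiberToSpecResidueField s) := inferInstance
  obtain ⟨hi, hker⟩ := Props12.stalkMap_fiberι p s x'
  have h3 := (FlatLocal.formallyUnramified_stalkMap_iff_of_square p (p.fiberToSpecResidueField s)
    (p.fiberι s) (S.fromSpecResidueField s) (p.fiber_fac s) x' hi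
    (Scheme.Hom.stalkMap_surjective _ _) hker.le).2 (FormallyUnramified.stalkMap _ x')
  rw [hx'] at h3
  obtain ⟨V, hxV, hV⟩ := (FlatLocal.formallyUnramified_nhd_iff p x).2 h3
  haveI := FlatLocal.isOpenImmersion_ι_section p e he V
  let c := (e ⁻¹ᵁ V).ι ≫ e
  let O : X.Opens := c.opensRange
  let U : S.Opens := (e ⁻¹ᵁ V) ⊓ ⟨(p.base '' (O : Set X)ᶜ)ᶜ, (p.isClosedMap _ O.2.isClosed_compl).isOpen_compl⟩
  have hxO : x ∈ O := ⟨⟨s, hxV⟩, rfl⟩
  have hall : ∀ y, p.base y = s → y = x := by
    intro y hy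
    have h1 : Subsingleton (p.fiber s) := (p.fiberToSpecResidueField s).homeomorph.injective.subsingleton
    obtain ⟨y', rfl⟩ : y ∈ Set.range (p.fiberι s) := by rw [Scheme.Hom.range_fiberι]; exact hy
    rw [← hx', Subsingleton.elim y' x']
  refine ⟨U, ⟨hxV, fun ⟨y, hy, hys⟩ => hy (hall y hys ▸ hxO)⟩, ?_⟩
  let d : (U : Scheme.{u}) ⟶ pullback p U.ι := pullback.lift (U.ι ≫ e) (𝟙 _) (by rw [Category.assoc, he]; simp)
  haveI : IsOpenImmersion (U.ι ≫ e) := by
    rw [← S.homOfLE_ι (show U ≤ e ⁻¹ᵁ V from inf_le_left), Category.assoc]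
    infer_instance
  haveI : IsOpenImmersion (d ≫ pullback.fst p U.ι) := by rw [pullback.lift_fst]; infer_instance
  haveI : IsOpenImmersion d := IsOpenImmersion.of_comp d (pullback.fst p U.ι)
  haveI : Surjective d := ⟨fun z => by
    let y := (pullback.fst p U.ι).base z
    have hpy : p.base y = U.ι ((pullback.snd p U.ι).base z) := by
      rw [← Scheme.Hom.comp_apply, pullback.condition, Scheme.Hom.comp_apply]
    have hyO : y ∈ O := by
      by_contra hy
      exact ((pullback.snd p U.ι).base z).2.2 ⟨y, hy, hpy⟩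
    obtain ⟨t, ht⟩ := hyO
    refine ⟨(pullback.snd p U.ι).base z, (pullback.fst p U.ι).isOpenEmbedding.injective ?_⟩
    rw [← Scheme.Hom.comp_apply, pullback.lift_fst]
    show e (U.ι _) = y
    rw [← hpy]
    have ht' : e ((e ⁻¹ᵁ V).ι t) = y := ht
    rw [← ht', ← Scheme.Hom.comp_apply e p, he]
    rfl⟩
  haveI : Epi d.base := (TopCat.epi_iff_surjective _).2 d.surjective
  haveI : IsIso d := IsOpenImmersion.isIso d
  have : pullback.snd p U.ι = inv d := by
    rw [← cancel_epi d, IsIso.hom_inv_id, pullback.lift_snd]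
  rw [this]
  infer_instance

end Groth.Agent.FinNormal26
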